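import Cfsg.Agent.G2Three.Cyclic
import Cfsg.Agent.Chevalley.GroupOrder
import Cfsg.Agent.Chevalley.GoodG2
import Cfsg.Agent.Weyl.RootG2
import Cfsg.Agent.Weyl.Poincare
import Mathlib.GroupTheory.Sylow

/-!
`G₂(3)`: the order, and no element of order `rs` with `r ∈ {7, 13}` and `s` another prime.
-/

set_option autoImplicit false
set_option linter.unusedSectionVars false
set_option linter.style.haveILetI false

namespace CfsgLib.G2Three

open Cfsg.Lie Matrix
open scoped MatrixGroups

noncomputable section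

/-- The group `G₂(3)`. -/
abbrev G23 : Subgroup (GL Ix K3) := chevG2.group K3

/-- Stabilises the ideal and commutes with the derivations. -/
def Compat (M : Matrix Ix Ix K3) : Prop :=
  (∀ a j, (∀ i, sub i ≠ a) → M a (sub j) = 0) ∧
    ∀ a, (∑ b : Ix, M b a • dT b) * M.submatrix sub sub = M.submatrix sub sub * dT a

theorem sub_injective : Function.Injective sub := by decide +kernel

theorem sum_sub {β : Type*} [AddCommMonoid β] (f : Ix → β) (h : ∀ a, (∀ i, sub i ≠ a) → f a = 0) :
    ∑ a, f a = ∑ i, f (sub i) := by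
  classical
  rw [← Finset.sum_image (g := sub) fun i _ j _ e => sub_injective e]
  exact (Finset.sum_subset (Finset.subset_univ _) fun a _ ha =>
    h a fun i e => ha (Finset.mem_image.2 ⟨i, Finset.mem_univ _, e⟩)).symm

theorem Compat.mul_sub {M N : Matrix Ix Ix K3} (hN : Compat N) :
    (M * N).submatrix sub sub = M.submatrix sub sub * N.submatrix sub sub := by
  ext i j
  simp only [submatrix_apply, mul_apply]
  exact sum_sub _ fun a ha => by rw [hN.1 a j ha, mul_zero]

theorem Compat.mul {M N : Matrix Ix Ix K3} (hM : Compat M) (hN : Compat N) : Compat (M * N) := by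
  refine ⟨fun a j ha => ?_, fun a => ?_⟩
  · rw [mul_apply, sum_sub _ fun c hc => by rw [hN.1 c j hc, mul_zero]]
    exact Finset.sum_eq_zero fun i _ => by rw [hM.1 a i ha, zero_mul]
  · rw [hN.mul_sub]
    have h1 : (∑ b : Ix, (M * N) b a • dT b) = ∑ c : Ix, N c a • ∑ b : Ix, M b c • dT b := by
      simp only [mul_apply, Finset.sum_smul, Finset.smul_sum, smul_smul, mul_comm]
      exact Finset.sum_comm
    rw [h1, ← Matrix.mul_assoc, Finset.sum_mul]
    have h2 : ∀ c : Ix, (N c a • ∑ b : Ix, M b c • dT b) * M.submatrix sub sub =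
        M.submatrix sub sub * (N c a • dT c) := fun c => by
      rw [smul_mul_assoc, hM.2 c, mul_smul_comm]
    simp only [h2]
    rw [← Finset.mul_sum, Matrix.mul_assoc, hN.2 a, Matrix.mul_assoc]

theorem compat_one : Compat (1 : Matrix Ix Ix K3) := by
  refine ⟨fun a j ha => Matrix.one_apply_ne fun e => ha j e.symm, fun a => ?_⟩
  rw [Matrix.submatrix_one sub sub_injective, Matrix.mul_one, Matrix.one_mul]
  simp [Matrix.one_apply, ite_smul]

theorem compat_gT (r : Fin 12) : Compat (gT r) := by
  refine ⟨fun a j ha => gT_stable r a j ha, fun a => ?_⟩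
  ext i j
  simp only [mul_apply, submatrix_apply, Matrix.sum_apply, Matrix.smul_apply, smul_eq_mul]
  exact derOK r a i j

theorem xMat_eq (r : Fin chevG2.nroots) :
    chevG2.xMat K3 r 0 = 1 ∧ chevG2.xMat K3 r 1 = gT r ∧ chevG2.xMat K3 r 2 = gT r * gT r := by
  refine ⟨?_, ?_, ?_⟩ <;> ext a b
  · exact (xMat_zero r a b).trans (by simp [oneEnt, Matrix.one_apply])
  · exact gT_eq r a b
  · exact gT_sq r a b

theorem compat_xMat (r : Fin chevG2.nroots) (t : K3) : Compat (chevG2.xMat K3 r t) := by
  obtain ⟨h0, h1, h2⟩ := xMat_eq r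
  have ht : t = 0 ∨ t = 1 ∨ t = 2 := by revert t; decide
  rcases ht with rfl | rfl | rfl
  · rw [h0]; exact compat_one
  · rw [h1]; exact compat_gT r
  · rw [h2]; exact (compat_gT r).mul (compat_gT r)

theorem compat_of_mem {g : GL Ix K3} (hg : g ∈ G23) : Compat g.1 := by
  have hpow : ∀ {h : GL Ix K3}, Compat h.1 → ∀ n : ℕ, Compat (h ^ n).1 := fun {h} hh n => by
    induction n with
    | zero => exact compat_one
    | succ n ih => rw [pow_succ]; exact ih.mul hh
  induction hg using Subgroup.closure_induction with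
  | mem x hx => obtain ⟨r, t, he⟩ := hx; rw [he]; exact compat_xMat r t
  | one => exact compat_one
  | mul x y _ _ hx hy => exact hx.mul hy
  | inv x _ hx =>
    have : x⁻¹ = x ^ (orderOf x - 1) := by
      refine inv_eq_of_mul_eq_one_left ?_
      rw [← pow_succ, Nat.sub_add_cancel (orderOf_pos x), pow_orderOf_eq_one]
    rw [this]; exact hpow hx _

/-- The action on the ideal. -/
def rho : G23 →* Matrix (Fin 7) (Fin 7) K3 where
  toFun g := g.1.1.submatrix sub sub
  map_one' := Matrix.submatrix_one sub sub_injective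
  map_mul' _ h := (compat_of_mem h.2).mul_sub

theorem eq_one_of_rho {g : G23} (h : rho g = 1) : g = 1 := by
  refine Subtype.ext (Units.ext ?_)
  ext c a
  have h1 := (compat_of_mem g.2).2 a
  have h' : g.1.1.submatrix sub sub = 1 := h
  rw [h', Matrix.mul_one, Matrix.one_mul] at h1
  have h2 : ∀ i j : Fin 7, dT a i j = ∑ b : Ix, g.1.1 b a * dT b i j := fun i j => by
    rw [← h1]; simp [Matrix.sum_apply]
  have key := derInv a c
  simp only [h2, Finset.mul_sum] at key
  simp only [Finset.sum_comm (s := (Finset.univ : Finset (Fin 7))) (t := (Finset.univ : Finset Ix))] at key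
  have e : ∀ b : Ix, (∑ i : Fin 7, ∑ j : Fin 7, ent derInvTab (pos c) i j * (g.1.1 b a * dT b i j)) =
      g.1.1 b a * if b = c then 1 else 0 := fun b => by
    rw [← derInv b c, Finset.mul_sum]
    refine Finset.sum_congr rfl fun i _ => ?_
    rw [Finset.mul_sum]
    exact Finset.sum_congr rfl fun j _ => by ring
  rw [Finset.sum_congr rfl fun b _ => e b] at key
  rw [show (((1 : G23) : GL Ix K3) : Matrix Ix Ix K3) c a = (1 : Matrix Ix Ix K3) c a from rfl, Matrix.one_apply]
  simpa [eq_comm] using key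

theorem rho_injective : Function.Injective rho := by
  intro g h e
  have hh : rho h * rho h⁻¹ = 1 := by rw [← map_mul, mul_inv_cancel, map_one]
  exact mul_inv_eq_one.1 (eq_one_of_rho (by rw [map_mul, e, hh]))

theorem goodWeylG2 : Chevalley.GoodWeyl chevG2 where
  good := Chevalley.good_chevG2
  comm := by decide +kernel
  primitive := by decide +kernel
  reflAll := by decide +kernel
  descent := by decide +kernel

theorem goodG2 : Chevalley.Good chevG2 := goodWeylG2.good

/-- A root of G2 from its index. -/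
def rootIx (r : Fin 12) : Chevalley.Root chevG2 := ⟨r.1, r.2⟩

/-- The root element with parameter one. -/
def gen (r : Fin 12) : G23 :=
  ⟨Chevalley.X goodG2 (rootIx r) (1 : K3), Chevalley.X_mem_group goodG2 (rootIx r) 1⟩

theorem rho_gen (r : Fin 12) : rho (gen r) = rT r := by
  show (gen r).1.1.submatrix sub sub = _
  rw [show ((gen r).1.1) = chevG2.xMat K3 (rootIx r) 1 by
    rw [gen, Chevalley.coe_X, ← Chevalley.x_eq_xR goodG2, ChevalleyDatum.x, dif_pos (rootIx r).isLt],
    (xMat_eq (rootIx r)).2.1]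
  rfl

/-- The product of root elements along a word. -/
def wordElt (l : List (Fin 12)) : G23 := (l.map gen).prod

theorem rho_wordElt (l : List (Fin 12)) (i j : Fin 7) :
    rho (wordElt l) i j = wordEnt (l.map fun r => r.val) i j := by
  induction l generalizing i j with
  | nil => rw [wordElt, List.map_nil, List.prod_nil, map_one, Matrix.one_apply]; rfl
  | cons r l ih =>
    rw [wordElt, List.map_cons, List.prod_cons, map_mul, rho_gen, Matrix.mul_apply, List.map_cons]
    exact Finset.sum_congr rfl fun k _ => by rw [← ih k j]; rfl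

/-- The product on the ideal. -/
def prodI (u w : Fin 7 → K3) : Fin 7 → K3 := (∑ s, u s • dT (sub s)) *ᵥ w

theorem rho_prodI (g : G23) (u w : Fin 7 → K3) :
    rho g *ᵥ prodI u w = prodI (rho g *ᵥ u) (rho g *ᵥ w) := by
  have key : rho g * (∑ s, u s • dT (sub s)) = (∑ s, (rho g *ᵥ u) s • dT (sub s)) * rho g := by
    have hs : ∀ s, rho g * dT (sub s) = (∑ i, rho g i s • dT (sub i)) * rho g := fun s => by
      refine ((compat_of_mem g.2).2 (sub s)).symm.trans (congrArg (· * rho g) ?_)
      exact sum_sub (fun b => g.1.1 b (sub s) • dT b) fun a ha => by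
        rw [(compat_of_mem g.2).1 a s ha, zero_smul]
    simp only [Finset.mul_sum, mul_smul_comm, hs, Finset.sum_mul, smul_mul_assoc, Finset.smul_sum, smul_smul]
    rw [Finset.sum_comm]
    refine Finset.sum_congr rfl fun i _ => ?_
    rw [← Finset.sum_smul]
    congr 1
    exact Finset.sum_congr rfl fun s _ => mul_comm _ _
  simp only [prodI]
  rw [mulVec_mulVec, key, ← mulVec_mulVec]

/-- An element with the tested matrix generates its centraliser. -/
theorem mem_zpowers_of_commute {T : Test} (hT : T.OK) {y : G23} (hy : ∀ i j, rho y i j = ent T.pw 1 i j)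
    {g : G23} (hg : Commute g y) : g ∈ Subgroup.zpowers y := by
  classical
  let Pw : ℕ → Matrix (Fin 7) (Fin 7) K3 := fun t => Matrix.of fun i j => ent T.pw t i j
  have hY : rho y = Pw 1 := by ext i j; exact hy i j
  have hpw : ∀ t, t < T.n → rho (y ^ t) = Pw t := by
    intro t
    induction t with
    | zero => intro _; ext i j; rw [pow_zero, map_one, Matrix.one_apply]; exact (hT.zero_eq i j).symm
    | succ t ih =>
      intro ht
      rw [pow_succ', map_mul, ih (by omega), hY]
      ext i j
      rw [Matrix.mul_apply]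
      have := hT.step ⟨t, by omega⟩ i j
      simp only [Nat.mod_eq_of_lt ht] at this
      exact this
  have hcomm : ∀ t, t < T.n → rho g * Pw t = Pw t * rho g := fun t ht => by
    rw [← hpw t ht, ← map_mul, ← map_mul, (hg.pow_right t).eq]
  set v : Fin 7 → K3 := Pi.single T.base 1 with hv
  set w := rho g *ᵥ v with hw
  let P : Matrix (Fin 7) (Fin 7) K3 := Matrix.of fun i j => ent2 T.lin i j
  have hP : P = ∑ t : Fin 7, ((T.coef.getD t 0 : ℕ) : K3) • Pw t := by
    ext i j; rw [Matrix.sum_apply]; exact hT.lin_eq i j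
  have hgP : rho g * P = P * rho g := by
    rw [hP, Finset.mul_sum, Finset.sum_mul]
    refine Finset.sum_congr rfl fun t _ => ?_
    rw [mul_smul_comm, smul_mul_assoc, hcomm t (lt_of_lt_of_le t.isLt hT.hn)]
  have hbase : prodI v (Pw T.shift *ᵥ v) = P *ᵥ v := by
    funext i
    have hsum : (∑ s, v s • dT (sub s)) = dT (sub T.base) := by simp [hv, Pi.single_apply]
    simp only [prodI]
    rw [hsum, mulVec_mulVec, hv, mulVec_single_one, mulVec_single_one]
    exact hT.lin_base i
  have hsol : ∀ i, T.Eqn w i := by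
    intro i
    have h := congrArg (rho g *ᵥ ·) hbase
    rw [rho_prodI, mulVec_mulVec v (rho g), hcomm _ hT.hshift, mulVec_mulVec v (rho g), hgP, ← mulVec_mulVec,
      ← mulVec_mulVec, ← hw] at h
    have hi := congrFun h i
    simp only [prodI, Matrix.mulVec, dotProduct, Matrix.sum_apply, Matrix.smul_apply, smul_eq_mul, Finset.sum_mul] at hi
    show ∑ a : Fin 7, ∑ b : Fin 7, w a * w b * ent T.quad i a b = ∑ a : Fin 7, ent2 T.lin i a * w a
    refine Eq.trans ?_ hi
    simp only [hT.quad_eq, Finset.mul_sum]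
    -- both sides are the same triple sum
    refine Eq.trans ?_ Finset.sum_comm
    refine Finset.sum_congr rfl fun a _ => ?_
    refine Finset.sum_comm.trans ?_
    exact Finset.sum_congr rfl fun l _ => Finset.sum_congr rfl fun b _ => by simp only [Pw, Matrix.of_apply]; ring
  have hvec : w = ![w 0, w 1, w 2, w 3, w 4, w 5, w 6] := by funext i; fin_cases i <;> rfl
  have hhit := hT.sols (w 0) (w 1) (w 2) (w 3) (w 4) (w 5) (w 6) (fun i => hvec ▸ hsol i)
  rw [← hvec] at hhit
  rcases hhit with h0 | ⟨j, hj⟩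
  · exfalso
    have : rho g⁻¹ *ᵥ w = v := by rw [hw, mulVec_mulVec, ← map_mul, inv_mul_cancel, map_one, one_mulVec]
    rw [show w = 0 from funext h0, mulVec_zero] at this
    have := congrFun this T.base
    simp [hv] at this
  · have hwj : w = Pw j *ᵥ v := by
      funext i; rw [hj i, hv, mulVec_single_one]; rfl
    let B : Matrix (Fin 7) (Fin 7) K3 := Matrix.of fun i k => ent T.pw k i T.base
    have hB : B * (Matrix.of fun (i j : Fin 7) => ent2 T.inv i j) = 1 := by
      ext i k; rw [Matrix.mul_apply, Matrix.one_apply]; exact hT.basis i k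
    have hgB : rho g * B = Pw j * B := by
      ext i k
      have hcol : ∀ M : Matrix (Fin 7) (Fin 7) K3, (M * B) i k = (M *ᵥ (Pw k *ᵥ v)) i := fun M => by
        rw [hv, mulVec_single_one]; rfl
      have hk := lt_of_lt_of_le k.isLt hT.hn
      rw [hcol, hcol]
      refine congrFun ?_ i
      rw [mulVec_mulVec, hcomm _ hk, ← mulVec_mulVec, ← hw, hwj, mulVec_mulVec, mulVec_mulVec,
        ← hpw _ hk, ← hpw _ j.isLt, ← map_mul, ← map_mul, ← pow_add, ← pow_add, Nat.add_comm]
    have hgj : rho g = Pw j := by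
      calc rho g = rho g * B * (Matrix.of fun (i k : Fin 7) => ent2 T.inv i k) := by rw [Matrix.mul_assoc, hB, Matrix.mul_one]
        _ = _ := by rw [hgB, Matrix.mul_assoc, hB, Matrix.mul_one]
    rw [rho_injective (hgj.trans (hpw _ j.isLt).symm)]
    exact Subgroup.npow_mem_zpowers y j

theorem orderOf_of_test {T : Test} (hT : T.OK) (hp : T.n.Prime) {y : G23}
    (hy : ∀ i j, rho y i j = ent T.pw 1 i j) (hne : y ≠ 1) : orderOf y = T.n := by
  haveI := Fact.mk hp
  refine orderOf_eq_prime ?_ hne
  have hpw : ∀ t, t < T.n → ∀ i j, rho (y ^ t) i j = ent T.pw t i j := by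
    intro t
    induction t with
    | zero => intro _ i j; rw [pow_zero, map_one, Matrix.one_apply]; exact (hT.zero_eq i j).symm
    | succ t ih =>
      intro ht i j
      rw [pow_succ', map_mul, Matrix.mul_apply]
      simp only [hy, ih (by omega)]
      simpa only [Nat.mod_eq_of_lt ht] using hT.step ⟨t, by omega⟩ i j
  refine eq_one_of_rho ?_
  have h1 : T.n - 1 < T.n := Nat.sub_lt hp.pos one_pos
  rw [← Nat.sub_add_cancel hp.one_le, pow_succ', map_mul]
  ext i j
  rw [Matrix.mul_apply, Matrix.one_apply, ← hT.zero_eq i j]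
  simp only [hy, hpw _ h1]
  simpa only [Nat.sub_add_cancel hp.one_le, Nat.mod_self] using hT.step ⟨T.n - 1, h1⟩ i j

theorem natCard_G23 : ∃ k, Nat.card G23 = 3 ^ 6 * 2 ^ k * (2 ^ 4 * 7 * 13) := by
  haveI : Finite CoxeterMatrix.G₂.Group :=
    Weyl.RootGood.finite_group (D := chevG2) Weyl.rootG2_good
  let iW : Fintype CoxeterMatrix.G₂.Group := Fintype.ofFinite _
  have h := @Chevalley.natCard_group chevG2 _ CoxeterMatrix.G₂ _ K3 _ goodWeylG2 Weyl.rootG2_good _ iW
  rw [Nat.card_zmod] at h
  obtain ⟨k, hk⟩ : ∃ k, Nat.card (chevG2.diagonalSubgroup K3) = 2 ^ k := by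
    rw [Chevalley.diagonalSubgroup_eq_range goodWeylG2]
    have hc : Nat.card (Fin chevG2.rank → K3ˣ) = 2 ^ 2 := by
      rw [Nat.card_fun, Nat.card_units, Nat.card_zmod, Nat.card_fin]; rfl
    have hd := Subgroup.card_range_dvd (Chevalley.torHom chevG2 K3)
    rw [hc] at hd
    obtain ⟨k, -, hk⟩ := (Nat.dvd_prime_pow Nat.prime_two).1 hd
    exact ⟨k, hk⟩
  refine ⟨k, h.trans ?_⟩
  have hP := @Weyl.RootGood.sum_pow_length_degrees ℕ _ _ _ _ _ Weyl.rootG2_good iW (3 : ℕ) [2, 6] (by decide +kernel)
  have h1 : (([2, 6] : List ℕ).map fun d => ∑ i ∈ Finset.range d, (3 : ℕ) ^ i).prod = 2 ^ 4 * 7 * 13 := by decide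
  rw [hk]
  exact congrArg₂ (fun a b => a * 2 ^ k * b) (congrArg (3 ^ ·) (by decide +kernel)) (hP.trans h1)

theorem dvd_card_iff {r : ℕ} (hr : r.Prime) : r ∣ Nat.card G23 ↔ r = 2 ∨ r = 3 ∨ r = 7 ∨ r = 13 := by
  obtain ⟨k, hk⟩ := natCard_G23
  rw [hk]
  constructor
  · intro h
    rcases hr.dvd_mul.1 h with h | h
    · rcases hr.dvd_mul.1 h with h | h
      · exact Or.inr (Or.inl ((Nat.prime_dvd_prime_iff_eq hr Nat.prime_three).1 (hr.dvd_of_dvd_pow h)))
      · exact Or.inl ((Nat.prime_dvd_prime_iff_eq hr Nat.prime_two).1 (hr.dvd_of_dvd_pow h))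
    · rcases hr.dvd_mul.1 h with h | h
      · rcases hr.dvd_mul.1 h with h | h
        · exact Or.inl ((Nat.prime_dvd_prime_iff_eq hr Nat.prime_two).1 (hr.dvd_of_dvd_pow h))
        · exact Or.inr (Or.inr (Or.inl ((Nat.prime_dvd_prime_iff_eq hr (by norm_num)).1 h)))
      · exact Or.inr (Or.inr (Or.inr ((Nat.prime_dvd_prime_iff_eq hr (by norm_num)).1 h)))
  · rintro (rfl | rfl | rfl | rfl)
    · exact dvd_mul_of_dvd_right (by norm_num) _
    · exact dvd_mul_of_dvd_left (dvd_mul_of_dvd_left (dvd_pow_self 3 (by norm_num)) _) _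
    · exact dvd_mul_of_dvd_right (by norm_num) _
    · exact dvd_mul_of_dvd_right (by norm_num) _

theorem no_edge_of_test {T : Test} (hT : T.OK) (hp : T.n.Prime) (hn : T.n = 7 ∨ T.n = 13) {y : G23}
    (hy : ∀ i j, rho y i j = ent T.pw 1 i j) (hne : y ≠ 1) {s : ℕ} (hs : s.Prime) (hsn : T.n ≠ s) :
    ¬ ∃ x : G23, orderOf x = T.n * s := by
  rintro ⟨x, hx⟩
  haveI := Fact.mk hp
  set a := x ^ s with ha
  have hoa : orderOf a = T.n := by
    rw [ha, orderOf_pow' x hs.ne_zero, hx, Nat.gcd_mul_left_left, Nat.mul_div_cancel _ hs.pos]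
  have hoy : orderOf y = T.n := orderOf_of_test hT hp hy hne
  -- both generate Sylow subgroups
  have hfac : (Nat.card G23).factorization T.n = 1 := by
    obtain ⟨k, hk⟩ := natCard_G23
    rw [hk]
    have h2 : T.n ≠ 2 := by omega
    have h3 : T.n ≠ 3 := by omega
    rw [Nat.factorization_mul (by positivity) (by norm_num), Nat.factorization_mul (by positivity) (by positivity),
      Nat.factorization_pow, Nat.factorization_pow, Nat.factorization_mul (by norm_num) (by norm_num),
      Nat.factorization_mul (by norm_num) (by norm_num), Nat.factorization_pow, Nat.prime_two.factorization,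
      Nat.prime_three.factorization, (show Nat.Prime 7 by norm_num).factorization,
      (show Nat.Prime 13 by norm_num).factorization]
    rcases hn with h | h <;> simp [h]
  have hca : Nat.card (Subgroup.zpowers a) = T.n ^ (Nat.card G23).factorization T.n := by
    rw [Nat.card_zpowers, hoa, hfac, pow_one]
  have hcy : Nat.card (Subgroup.zpowers y) = T.n ^ (Nat.card G23).factorization T.n := by
    rw [Nat.card_zpowers, hoy, hfac, pow_one]
  obtain ⟨c, hc⟩ := MulAction.exists_smul_eq G23 (Sylow.ofCard _ hca) (Sylow.ofCard _ hcy)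
  have hmem : c * a * c⁻¹ ∈ Subgroup.zpowers y := by
    have h1 : c * a * c⁻¹ ∈ (c • Sylow.ofCard _ hca : Sylow T.n G23).toSubgroup :=
      ⟨a, Subgroup.mem_zpowers a, by simp⟩
    rwa [hc] at h1
  have hoc : orderOf (c * a * c⁻¹) = T.n := (MulEquiv.orderOf_eq (MulAut.conj c) a).trans hoa
  have hgen : Subgroup.zpowers (c * a * c⁻¹) = Subgroup.zpowers y :=
    Subgroup.eq_of_le_of_card_ge (Subgroup.zpowers_le.2 hmem) (by rw [Nat.card_zpowers, Nat.card_zpowers, hoc, hoy])
  have hy' : y ∈ Subgroup.zpowers (c * a * c⁻¹) := hgen ▸ Subgroup.mem_zpowers y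
  have hcomm : Commute (c * x * c⁻¹) y := by
    obtain ⟨i, hi⟩ := hy'
    rw [← hi]
    refine Commute.zpow_right ?_ i
    show (c * x * c⁻¹) * (c * a * c⁻¹) = (c * a * c⁻¹) * (c * x * c⁻¹)
    rw [conj_mul, conj_mul, ha, pow_mul_comm']
  have h1 := mem_zpowers_of_commute hT hy hcomm
  have h2 : orderOf (MulAut.conj c x) ∣ T.n := by
    have := Subgroup.orderOf_dvd_natCard _ h1
    rwa [Nat.card_zpowers, hoy] at this
  rw [MulEquiv.orderOf_eq, hx] at h2
  have := Nat.le_of_dvd hp.pos h2
  have := hs.two_le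
  nlinarith [hp.pos]

set_option maxRecDepth 100000 in
set_option maxHeartbeats 1000000 in
theorem no_edge {r s : ℕ} (hrn : r = 7 ∨ r = 13) (hs : s.Prime) (hne : r ≠ s) :
    ¬ ∃ x : G23, orderOf x = r * s := by
  rcases hrn with rfl | rfl
  · refine no_edge_of_test test7_ok (by decide) (Or.inl rfl) (y := wordElt [0, 1, 3, 11])
      (fun i j => (rho_wordElt _ i j).trans (test7_ok.word_eq i j)) (fun e => ?_) hs hne
    have h7 : ∀ i j : Fin 7, ent test7.pw 1 i j = if i = j then (1 : K3) else 0 := fun i j => by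
      rw [← test7_ok.word_eq i j]
      exact (rho_wordElt [0, 1, 3, 11] i j).symm.trans (by rw [e, map_one, Matrix.one_apply])
    exact absurd h7 (by decide +kernel)
  · refine no_edge_of_test test13_ok (by decide) (Or.inr rfl) (y := wordElt [0, 4, 9])
      (fun i j => (rho_wordElt _ i j).trans (test13_ok.word_eq i j)) (fun e => ?_) hs hne
    have h13 : ∀ i j : Fin 7, ent test13.pw 1 i j = if i = j then (1 : K3) else 0 := fun i j => by
      rw [← test13_ok.word_eq i j]
      exact (rho_wordElt [0, 4, 9] i j).symm.trans (by rw [e, map_one, Matrix.one_apply])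
    exact absurd h13 (by decide +kernel)

set_option maxRecDepth 100000 in
set_option maxHeartbeats 1000000 in
theorem exists_order_six : ∃ x : G23, orderOf x = 6 := by
  have h : ∀ k : ℕ, 0 < k → k < 6 → ∃ i j, wordEnt ((List.replicate k [0, 11, 11]).flatten) i j ≠ if i = j then 1 else 0 := by
    intro k h1 h2
    interval_cases k <;> decide +kernel
  have h6 : ∀ i j, wordEnt ((List.replicate 6 [0, 11, 11]).flatten) i j = if i = j then 1 else 0 := by
    decide +kernel
  let x := wordElt [0, 11, 11]
  have hx : ∀ k i j, rho (x ^ k) i j = wordEnt ((List.replicate k [0, 11, 11]).flatten) i j := by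
    intro k i j
    have : x ^ k = wordElt ((List.replicate k [0, 11, 11]).flatten) := by
      simp only [x, wordElt, List.map_flatten, List.prod_flatten, List.map_replicate, List.prod_replicate]
    rw [this, rho_wordElt, List.map_flatten, List.map_replicate]
    rfl
  refine ⟨x, orderOf_eq_iff (by norm_num) |>.2 ⟨eq_one_of_rho ?_, fun m hm hm0 e => ?_⟩⟩
  · ext i j; rw [hx, h6, Matrix.one_apply]
  · obtain ⟨i, j, hij⟩ := h m hm0 hm
    exact hij (by rw [← hx, e, map_one, Matrix.one_apply])

end

end CfsgLib.G2Three
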