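import Cfsg.Agent.G2Three.Data
import Cfsg.Prelude.Def_ChevG2

/-!
Finite checks on the tables for `G₂(3)`.
-/

set_option autoImplicit false
set_option maxRecDepth 100000

namespace CfsgLib.G2Three

open Cfsg.Lie

noncomputable section

instance factThree : Fact (Nat.Prime 3) := ⟨Nat.prime_three⟩

/-- The field with three elements. -/
abbrev K3 : Type := ZMod 3

/-- The coordinates of the Lie algebra of type G2. -/
abbrev Ix : Type := chevG2.Idx

/-- The position of a coordinate. -/
def pos : Ix → ℕ := Sum.elim (fun i => i.val) fun r => 2 + r.val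

/-- The coordinates of the short root ideal. -/
def sub : Fin 7 → Ix :=
  ![.inl (0 : Fin 2), .inr (2 : Fin 12), .inr (3 : Fin 12), .inr (4 : Fin 12), .inr (7 : Fin 12), .inr (8 : Fin 12),
    .inr (9 : Fin 12)]

/-- An entry of a table of matrices. -/
def ent (T : List (List (List ℕ))) (k a b : ℕ) : K3 := (((T.getD k []).getD a []).getD b 0 : ℕ)

/-- An entry of a tabulated matrix. -/
def ent2 (T : List (List ℕ)) (a b : ℕ) : K3 := ((T.getD a []).getD b 0 : ℕ)

/-- The root element with parameter one. -/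
def gT (r : ℕ) : Matrix Ix Ix K3 := Matrix.of fun a b => ent genTab r (pos a) (pos b)

/-- The derivation attached to a coordinate. -/
def dT (a : Ix) : Matrix (Fin 7) (Fin 7) K3 := Matrix.of fun i j => ent derTab (pos a) i j

/-- An entry of a root element over the field with three elements. -/
def xEnt (r : Fin chevG2.nroots) (t : K3) (a b : Ix) : K3 := chevG2.xMat K3 r t a b

/-- An entry of the square of a tabulated root element. -/
def sqEnt (r : ℕ) (a b : Ix) : K3 := ∑ c : Ix, gT r a c * gT r c b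

/-- An entry of the identity. -/
def oneEnt (a b : Ix) : K3 := if a = b then 1 else 0

/-- An entry of a tabulated root element. -/
def gEnt (r : ℕ) (a b : Ix) : K3 := gT r a b

theorem gT_eq : ∀ r : Fin chevG2.nroots, ∀ a b : Ix, xEnt r 1 a b = gEnt r a b := by decide +kernel

theorem gT_sq : ∀ r : Fin chevG2.nroots, ∀ a b : Ix, xEnt r 2 a b = sqEnt r a b := by
  decide +kernel

theorem xMat_zero : ∀ r : Fin chevG2.nroots, ∀ a b : Ix, xEnt r 0 a b = oneEnt a b := by
  decide +kernel

theorem gT_stable : ∀ r : Fin 12, ∀ a : Ix, ∀ j : Fin 7, (∀ i, sub i ≠ a) → gT r a (sub j) = 0 := by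
  decide +kernel

/-- The equivariance of the derivations, at one root and one coordinate. -/
def DerOK (r : ℕ) (a : Ix) : Prop :=
  ∀ i j : Fin 7, ∑ k : Fin 7, (∑ b : Ix, gT r b a * dT b i k) * gT r (sub k) (sub j) =
    ∑ k : Fin 7, gT r (sub i) (sub k) * dT a k j

instance (r : ℕ) (a : Ix) : Decidable (DerOK r a) := by unfold DerOK; infer_instance

theorem der0 : ∀ a, DerOK 0 a := by decide +kernel
theorem der1 : ∀ a, DerOK 1 a := by decide +kernel
theorem der2 : ∀ a, DerOK 2 a := by decide +kernel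
theorem der3 : ∀ a, DerOK 3 a := by decide +kernel
theorem der4 : ∀ a, DerOK 4 a := by decide +kernel
theorem der5 : ∀ a, DerOK 5 a := by decide +kernel
theorem der6 : ∀ a, DerOK 6 a := by decide +kernel
theorem der7 : ∀ a, DerOK 7 a := by decide +kernel
theorem der8 : ∀ a, DerOK 8 a := by decide +kernel
theorem der9 : ∀ a, DerOK 9 a := by decide +kernel
theorem der10 : ∀ a, DerOK 10 a := by decide +kernel
theorem der11 : ∀ a, DerOK 11 a := by decide +kernel

theorem derOK : ∀ r : Fin 12, ∀ a, DerOK r a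
  | ⟨0, _⟩ => der0 | ⟨1, _⟩ => der1 | ⟨2, _⟩ => der2 | ⟨3, _⟩ => der3 | ⟨4, _⟩ => der4 | ⟨5, _⟩ => der5
  | ⟨6, _⟩ => der6 | ⟨7, _⟩ => der7 | ⟨8, _⟩ => der8 | ⟨9, _⟩ => der9 | ⟨10, _⟩ => der10 | ⟨11, _⟩ => der11

theorem derInv : ∀ a c : Ix, (∑ i : Fin 7, ∑ j : Fin 7, ent derInvTab (pos c) i j * dT a i j) = if a = c then 1 else 0 := by
  decide +kernel

end

end CfsgLib.G2Three
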