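import Cfsg.Agent.G2Three.Checks

/-!
The finite test that only the powers of the chosen elements of order 7 and 13 commute with them and preserve the product.
-/

set_option autoImplicit false
set_option maxRecDepth 100000

namespace CfsgLib.G2Three

noncomputable section

/-- A root element restricted to the ideal. -/
def rT (r : ℕ) : Matrix (Fin 7) (Fin 7) K3 := Matrix.of fun i j => gT r (sub i) (sub j)

/-- An entry of a product of restricted root elements, in the given order. -/
def wordEnt : List ℕ → Fin 7 → Fin 7 → K3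
  | [], i, j => if i = j then 1 else 0
  | r :: l, i, j => ∑ k : Fin 7, rT r i k * wordEnt l k j

/-- The data of one test. -/
structure Test where
  n : ℕ
  word : List ℕ
  base : Fin 7
  shift : ℕ
  pw : List (List (List ℕ))
  inv : List (List ℕ)
  coef : List ℕ
  lin : List (List ℕ)
  quad : List (List (List ℕ))

/-- The test for order 7. -/
def test7 : Test := ⟨7, [0, 1, 3, 11], 4, 3, powTab7, cycInvTab7, coefTab7, linTab7, quadTab7⟩

/-- The test for order 13. -/
def test13 : Test := ⟨13, [0, 4, 9], 6, 1, powTab13, cycInvTab13, coefTab13, linTab13, quadTab13⟩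

/-- The quadratic and the linear side agree at `w` in coordinate `i`. -/
def Test.Eqn (T : Test) (w : Fin 7 → K3) (i : Fin 7) : Prop :=
  ∑ a : Fin 7, ∑ b : Fin 7, w a * w b * ent T.quad i a b = ∑ a : Fin 7, ent2 T.lin i a * w a

/-- `w` is a power of the element applied to the base vector, or zero. -/
def Test.Hit (T : Test) (w : Fin 7 → K3) : Prop :=
  (∀ i, w i = 0) ∨ ∃ j : Fin T.n, ∀ i, w i = ent T.pw j i T.base

instance (T : Test) (w : Fin 7 → K3) (i : Fin 7) : Decidable (T.Eqn w i) := by unfold Test.Eqn; infer_instance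
instance (T : Test) (w : Fin 7 → K3) : Decidable (T.Hit w) := by unfold Test.Hit; infer_instance

/-- The properties to be checked. -/
structure Test.OK (T : Test) : Prop where
  hn : 7 ≤ T.n
  hshift : T.shift < T.n
  word_eq : ∀ i j : Fin 7, wordEnt T.word i j = ent T.pw 1 i j
  zero_eq : ∀ i j : Fin 7, ent T.pw 0 i j = if i = j then 1 else 0
  step : ∀ t : Fin T.n, ∀ i j : Fin 7, (∑ l : Fin 7, ent T.pw 1 i l * ent T.pw t l j) = ent T.pw ((t + 1) % T.n) i j
  basis : ∀ i j : Fin 7, (∑ k : Fin 7, ent T.pw k i T.base * ent2 T.inv k j) = if i = j then 1 else 0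
  lin_eq : ∀ i j : Fin 7, ent2 T.lin i j = ∑ t : Fin 7, ((T.coef.getD t 0 : ℕ) : K3) * ent T.pw t i j
  lin_base : ∀ i : Fin 7, (∑ l : Fin 7, dT (sub T.base) i l * ent T.pw T.shift l T.base) = ent2 T.lin i T.base
  quad_eq : ∀ i a b : Fin 7, ent T.quad i a b = ∑ l : Fin 7, dT (sub a) i l * ent T.pw T.shift l b
  sols : ∀ a₀ a₁ a₂ a₃ a₄ a₅ a₆ : K3,
    (∀ i, T.Eqn ![a₀, a₁, a₂, a₃, a₄, a₅, a₆] i) → T.Hit ![a₀, a₁, a₂, a₃, a₄, a₅, a₆]

theorem test7_ok : test7.OK where
  hn := by decide +kernel
  hshift := by decide +kernel
  word_eq := by decide +kernel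
  zero_eq := by decide +kernel
  step := by decide +kernel
  basis := by decide +kernel
  lin_eq := by decide +kernel
  lin_base := by decide +kernel
  quad_eq := by decide +kernel
  sols := by decide +kernel

theorem test13_ok : test13.OK where
  hn := by decide +kernel
  hshift := by decide +kernel
  word_eq := by decide +kernel
  zero_eq := by decide +kernel
  step := by decide +kernel
  basis := by decide +kernel
  lin_eq := by decide +kernel
  lin_base := by decide +kernel
  quad_eq := by decide +kernel
  sols := by decide +kernel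

end

end CfsgLib.G2Three
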