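/-!
Tables for `G₂(3)` acting on the seven-dimensional ideal of short roots of its Lie algebra, in characteristic three.
-/

set_option autoImplicit false
set_option maxRecDepth 100000

namespace CfsgLib.G2Three

/-- The root elements with parameter one. -/
noncomputable def genTab : List (List (List Nat)) :=
  [[[1, 0, 0, 0, 0, 0, 0, 0, 0, 0, 0, 0, 0, 2], [0, 1, 0, 0, 0, 0, 0, 0, 0, 0, 0, 0, 0, 1], [0, 1, 1, 0, 0, 0, 0, 0, 0, 0, 0, 0, 0, 2], [0, 0, 0, 1, 0, 0, 0, 0, 1, 0, 0, 0, 0, 0], [0, 0, 0, 0, 1, 0, 0, 0, 0, 0, 1, 0, 0, 0], [0, 0, 0, 0, 0, 1, 0, 0, 0, 0, 0, 2, 0, 0], [0, 0, 0, 0, 0, 0, 1, 0, 0, 0, 0, 0, 0, 0], [0, 0, 0, 0, 0, 0, 0, 1, 0, 0, 0, 0, 2, 0], [0, 0, 0, 0,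 0, 0, 0, 0, 1, 0, 0, 0, 0, 0], [0, 0, 0, 0, 0, 0, 0, 0, 0, 1, 0, 0, 0, 0], [0, 0, 0, 0, 0, 0, 0, 0, 0, 0, 1, 0, 0, 0], [0, 0, 0, 0, 0, 0, 0, 0, 0, 0, 0, 1, 0, 0], [0, 0, 0, 0, 0, 0, 0, 0, 0, 0, 0, 0, 1, 0], [0, 0, 0, 0, 0, 0, 0, 0, 0, 0, 0, 0, 0, 1]],
   [[1, 0, 0, 0, 0, 0, 0, 0, 0, 0, 0, 0, 2, 0], [0, 1, 0, 0, 0, 0, 0, 0, 0, 0, 0, 0, 2, 0], [0, 0, 1, 0, 0, 0, 0, 1, 0, 0, 0, 0, 0, 0], [0, 2, 0, 1, 0, 0, 0, 0, 0, 0, 0, 0, 2, 0], [0, 0, 0, 0, 1, 0, 0, 0, 0, 1, 0, 0, 0, 0], [0, 0, 0, 0, 0, 1, 0, 0, 0, 0, 0, 0, 0, 0], [0, 0, 0, 0, 0, 0, 1, 0, 0, 0, 0, 2, 0, 0], [0, 0, 0, 0, 0, 0, 0, 1, 0, 0, 0, 0, 0, 0], [0, 0, 0, 0, 0, 0, 0, 0, 1, 0, 0, 0, 0, 2], [0, 0, 0, 0, 0, 0, 0, 0,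 0, 1, 0, 0, 0, 0], [0, 0, 0, 0, 0, 0, 0, 0, 0, 0, 1, 0, 0, 0], [0, 0, 0, 0, 0, 0, 0, 0, 0, 0, 0, 1, 0, 0], [0, 0, 0, 0, 0, 0, 0, 0, 0, 0, 0, 0, 1, 0], [0, 0, 0, 0, 0, 0, 0, 0, 0, 0, 0, 0, 0, 1]],
   [[1, 0, 0, 0, 0, 0, 0, 0, 0, 0, 0, 1, 0, 0], [0, 1, 0, 0, 0, 0, 0, 0, 0, 0, 0, 0, 0, 0], [0, 0, 1, 0, 0, 0, 0, 0, 0, 0, 0, 0, 1, 0], [0, 0, 0, 1, 0, 0, 0, 0, 0, 0, 0, 0, 0, 2], [1, 0, 0, 0, 1, 0, 0, 0, 0, 0, 0, 2, 0, 0], [0, 0, 0, 0, 0, 1, 0, 0, 0, 1, 0, 0, 1, 0], [0, 0, 0, 0, 0, 0, 1, 0, 0, 0, 2, 0, 0, 2], [0, 0, 0, 0, 0, 0, 0, 1, 0, 0, 0, 0, 0, 0], [0, 0, 0, 0, 0, 0, 0, 0, 1, 0, 0, 0, 0, 0], [0, 0, 0, 0, 0, 0, 0, 0, 0, 1, 0, 0, 2, 0], [0, 0, 0, 0, 0, 0, 0, 0, 0, 0, 1, 0,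 0, 2], [0, 0, 0, 0, 0, 0, 0, 0, 0, 0, 0, 1, 0, 0], [0, 0, 0, 0, 0, 0, 0, 0, 0, 0, 0, 0, 1, 0], [0, 0, 0, 0, 0, 0, 0, 0, 0, 0, 0, 0, 0, 1]],
   [[1, 0, 0, 0, 0, 0, 0, 0, 0, 0, 2, 0, 0, 0], [0, 1, 0, 0, 0, 0, 0, 0, 0, 0, 0, 0, 0, 0], [0, 0, 1, 0, 0, 0, 0, 0, 1, 0, 0, 0, 0, 0], [0, 0, 0, 1, 0, 0, 0, 0, 0, 0, 0, 0, 0, 0], [0, 0, 0, 0, 1, 0, 1, 0, 2, 0, 0, 0, 0, 0], [2, 1, 0, 0, 0, 1, 0, 0, 0, 0, 2, 0, 0, 0], [0, 0, 0, 0, 0, 0, 1, 0, 1, 0, 0, 0, 0, 0], [0, 0, 0, 0, 0, 0, 0, 1, 0, 0, 0, 0, 0, 2], [0, 0, 0, 0, 0, 0, 0, 0, 1, 0, 0, 0, 0, 0], [0, 0, 0, 0, 0, 0, 0, 0, 0, 1, 0, 2, 0, 1], [0, 0, 0, 0, 0, 0, 0, 0, 0, 0, 1, 0, 0, 0], [0, 0, 0, 0, 0, 0, 0, 0, 0, 0, 0, 1, 0, 1], [0, 0,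 0, 0, 0, 0, 0, 0, 0, 0, 0, 0, 1, 0], [0, 0, 0, 0, 0, 0, 0, 0, 0, 0, 0, 0, 0, 1]],
   [[1, 0, 0, 0, 0, 0, 0, 0, 0, 2, 0, 0, 0, 0], [0, 1, 0, 0, 0, 0, 0, 0, 0, 0, 0, 0, 0, 0], [0, 0, 1, 0, 0, 0, 0, 0, 0, 0, 0, 0, 0, 0], [0, 0, 0, 1, 0, 0, 0, 2, 0, 0, 0, 0, 0, 0], [0, 0, 0, 0, 1, 2, 0, 1, 0, 0, 0, 0, 0, 0], [0, 0, 0, 0, 0, 1, 0, 1, 0, 0, 0, 0, 0, 0], [2, 2, 0, 0, 0, 0, 1, 0, 0, 2, 0, 0, 0, 0], [0, 0, 0, 0, 0, 0, 0, 1, 0, 0, 0, 0, 0, 0], [0, 0, 0, 0, 0, 0, 0, 0, 1, 0, 0, 0, 1, 0], [0, 0, 0, 0, 0, 0, 0, 0, 0, 1, 0, 0, 0, 0], [0, 0, 0, 0, 0, 0, 0, 0, 0, 0, 1, 1, 2, 0], [0, 0, 0, 0, 0, 0, 0, 0, 0, 0, 0, 1, 1, 0], [0, 0, 0, 0, 0, 0, 0, 0, 0, 0, 0, 0, 1, 0], [0, 0, 0, 0, 0, 0,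 0, 0, 0, 0, 0, 0, 0, 1]],
   [[1, 0, 0, 0, 0, 0, 0, 0, 0, 0, 0, 0, 0, 0], [0, 1, 0, 0, 0, 0, 0, 0, 2, 0, 0, 0, 0, 0], [0, 0, 1, 2, 0, 0, 0, 0, 0, 0, 0, 0, 0, 0], [0, 0, 0, 1, 0, 0, 0, 0, 0, 0, 0, 0, 0, 0], [0, 0, 0, 0, 1, 0, 0, 0, 0, 0, 0, 0, 0, 0], [0, 0, 0, 0, 0, 1, 2, 0, 0, 0, 0, 0, 0, 0], [0, 0, 0, 0, 0, 0, 1, 0, 0, 0, 0, 0, 0, 0], [0, 2, 0, 0, 0, 0, 0, 1, 2, 0, 0, 0, 0, 0], [0, 0, 0, 0, 0, 0, 0, 0, 1, 0, 0, 0, 0, 0], [0, 0, 0, 0, 0, 0, 0, 0, 0, 1, 1, 0, 0, 0], [0, 0, 0, 0, 0, 0, 0, 0, 0, 0, 1, 0, 0, 0], [0, 0, 0, 0, 0, 0, 0, 0, 0, 0, 0, 1, 0, 0], [0, 0, 0, 0, 0, 0, 0, 0, 0, 0, 0, 0, 1, 1], [0, 0, 0, 0, 0, 0, 0, 0, 0, 0, 0, 0, 0, 1]],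
   [[1, 0, 0, 0, 0, 0, 0, 0, 0, 0, 0, 0, 0, 0], [0, 1, 0, 0, 0, 0, 0, 1, 0, 0, 0, 0, 0, 0], [0, 0, 1, 0, 0, 0, 0, 0, 0, 0, 0, 0, 0, 0], [0, 0, 2, 1, 0, 0, 0, 0, 0, 0, 0, 0, 0, 0], [0, 0, 0, 0, 1, 0, 0, 0, 0, 0, 0, 0, 0, 0], [0, 0, 0, 0, 0, 1, 0, 0, 0, 0, 0, 0, 0, 0], [0, 0, 0, 0, 0, 2, 1, 0, 0, 0, 0, 0, 0, 0], [0, 0, 0, 0, 0, 0, 0, 1, 0, 0, 0, 0, 0, 0], [0, 1, 0, 0, 0, 0, 0, 2, 1, 0, 0, 0, 0, 0], [0, 0, 0, 0, 0, 0, 0, 0, 0, 1, 0, 0, 0, 0], [0, 0, 0, 0, 0, 0, 0, 0, 0, 1, 1, 0, 0, 0], [0, 0, 0, 0, 0, 0, 0, 0, 0, 0, 0, 1, 0, 0], [0, 0, 0, 0, 0, 0, 0, 0, 0, 0, 0, 0, 1, 0], [0, 0, 0, 0, 0, 0, 0, 0, 0, 0, 0, 0, 1, 1]],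
   [[1, 0, 0, 0, 0, 0, 1, 0, 0, 0, 0, 0, 0, 0], [0, 1, 0, 0, 0, 0, 0, 0, 0, 0, 0, 0, 0, 0], [0, 0, 1, 0, 0, 0, 0, 0, 0, 0, 0, 0, 0, 0], [0, 0, 0, 1, 0, 0, 0, 0, 0, 0, 0, 0, 0, 0], [0, 0, 0, 2, 1, 0, 0, 0, 0, 0, 0, 0, 0, 0], [0, 0, 0, 2, 2, 1, 0, 0, 0, 0, 0, 0, 0, 0], [0, 0, 0, 0, 0, 0, 1, 0, 0, 0, 0, 0, 0, 0], [0, 0, 0, 2, 0, 0, 0, 1, 0, 0, 0, 0, 0, 0], [0, 0, 0, 0, 0, 0, 0, 0, 1, 0, 0, 0, 0, 0], [1, 1, 0, 0, 0, 0, 2, 0, 0, 1, 0, 0, 0, 0], [0, 0, 0, 0, 0, 0, 0, 0, 2, 0, 1, 0, 0, 0], [0, 0, 0, 0, 0, 0, 0, 0, 1, 0, 1, 1, 0, 0], [0, 0, 0, 0, 0, 0, 0, 0, 1, 0, 0, 0, 1, 0], [0, 0, 0, 0, 0, 0, 0, 0, 0, 0, 0, 0, 0, 1]],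
   [[1, 0, 0, 0, 0, 1, 0, 0, 0, 0, 0, 0, 0, 0], [0, 1, 0, 0, 0, 0, 0, 0, 0, 0, 0, 0, 0, 0], [0, 0, 1, 0, 0, 0, 0, 0, 0, 0, 0, 0, 0, 0], [0, 0, 0, 1, 0, 0, 0, 0, 0, 0, 0, 0, 0, 0], [0, 0, 2, 0, 1, 0, 0, 0, 0, 0, 0, 0, 0, 0], [0, 0, 0, 0, 0, 1, 0, 0, 0, 0, 0, 0, 0, 0], [0, 0, 1, 0, 1, 0, 1, 0, 0, 0, 0, 0, 0, 0], [0, 0, 0, 0, 0, 0, 0, 1, 0, 0, 0, 0, 0, 0], [0, 0, 1, 0, 0, 0, 0, 0, 1, 0, 0, 0, 0, 0], [0, 0, 0, 0, 0, 0, 0, 2, 0, 1, 0, 0, 0, 0], [1, 2, 0, 0, 0, 2, 0, 0, 0, 0, 1, 0, 0, 0], [0, 0, 0, 0, 0, 0, 0, 2, 0, 2, 0, 1, 0, 0], [0, 0, 0, 0, 0, 0, 0, 0, 0, 0, 0, 0, 1, 0], [0, 0, 0, 0, 0, 0, 0, 2, 0, 0, 0, 0, 0, 1]],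
   [[1, 0, 0, 0, 2, 0, 0, 0, 0, 0, 0, 0, 0, 0], [0, 1, 0, 0, 0, 0, 0, 0, 0, 0, 0, 0, 0, 0], [0, 0, 1, 0, 0, 0, 0, 0, 0, 0, 0, 0, 0, 0], [0, 0, 0, 1, 0, 0, 0, 0, 0, 0, 0, 0, 0, 0], [0, 0, 0, 0, 1, 0, 0, 0, 0, 0, 0, 0, 0, 0], [0, 0, 1, 0, 0, 1, 0, 0, 0, 0, 0, 0, 0, 0], [0, 0, 0, 1, 0, 0, 1, 0, 0, 0, 0, 0, 0, 0], [0, 0, 0, 0, 0, 0, 0, 1, 0, 0, 0, 0, 0, 0], [0, 0, 0, 0, 0, 0, 0, 0, 1, 0, 0, 0, 0, 0], [0, 0, 2, 0, 0, 1, 0, 0, 0, 1, 0, 0, 0, 0], [0, 0, 0, 1, 0, 0, 2, 0, 0, 0, 1, 0, 0, 0], [2, 0, 0, 0, 2, 0, 0, 0, 0, 0, 0, 1, 0, 0], [0, 0, 1, 0, 0, 0, 0, 0, 0, 0, 0, 0, 1, 0], [0, 0, 0, 2, 0, 0, 0, 0, 0, 0, 0, 0, 0, 1]],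
   [[1, 0, 0, 1, 0, 0, 0, 0, 0, 0, 0, 0, 0, 0], [0, 1, 0, 1, 0, 0, 0, 0, 0, 0, 0, 0, 0, 0], [0, 0, 1, 0, 0, 0, 0, 0, 0, 0, 0, 0, 0, 0], [0, 0, 0, 1, 0, 0, 0, 0, 0, 0, 0, 0, 0, 0], [0, 0, 0, 0, 1, 0, 0, 0, 0, 0, 0, 0, 0, 0], [0, 0, 0, 0, 0, 1, 0, 0, 0, 0, 0, 0, 0, 0], [0, 0, 0, 0, 0, 0, 1, 0, 0, 0, 0, 0, 0, 0], [0, 0, 1, 0, 0, 0, 0, 1, 0, 0, 0, 0, 0, 0], [0, 0, 0, 0, 0, 0, 0, 0, 1, 0, 0, 0, 0, 0], [0, 0, 0, 0, 1, 0, 0, 0, 0, 1, 0, 0, 0, 0], [0, 0, 0, 0, 0, 0, 0, 0, 0, 0, 1, 0, 0, 0], [0, 0, 0, 0, 0, 0, 2, 0, 0, 0, 0, 1, 0, 0], [0, 1, 0, 2, 0, 0, 0, 0, 0, 0, 0, 0, 1, 0], [0, 0, 0, 0, 0, 0, 0, 0, 2, 0, 0, 0, 0, 1]],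
   [[1, 0, 1, 0, 0, 0, 0, 0, 0, 0, 0, 0, 0, 0], [0, 1, 2, 0, 0, 0, 0, 0, 0, 0, 0, 0, 0, 0], [0, 0, 1, 0, 0, 0, 0, 0, 0, 0, 0, 0, 0, 0], [0, 0, 0, 1, 0, 0, 0, 0, 0, 0, 0, 0, 0, 0], [0, 0, 0, 0, 1, 0, 0, 0, 0, 0, 0, 0, 0, 0], [0, 0, 0, 0, 0, 1, 0, 0, 0, 0, 0, 0, 0, 0], [0, 0, 0, 0, 0, 0, 1, 0, 0, 0, 0, 0, 0, 0], [0, 0, 0, 0, 0, 0, 0, 1, 0, 0, 0, 0, 0, 0], [0, 0, 0, 1, 0, 0, 0, 0, 1, 0, 0, 0, 0, 0], [0, 0, 0, 0, 0, 0, 0, 0, 0, 1, 0, 0, 0, 0], [0, 0, 0, 0, 1, 0, 0, 0, 0, 0, 1, 0, 0, 0], [0, 0, 0, 0, 0, 2, 0, 0, 0, 0, 0, 1, 0, 0], [0, 0, 0, 0, 0, 0, 0, 2, 0, 0, 0, 0, 1, 0], [0, 2, 2, 0, 0, 0, 0, 0, 0, 0, 0, 0, 0, 1]]]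

/-- The derivation of the ideal given by each basis vector of the Lie algebra. -/
noncomputable def derTab : List (List (List Nat)) :=
  [[[0, 0, 0, 0, 0, 0, 0], [0, 2, 0, 0, 0, 0, 0], [0, 0, 1, 0, 0, 0, 0], [0, 0, 0, 1, 0, 0, 0], [0, 0, 0, 0, 2, 0, 0], [0, 0, 0, 0, 0, 2, 0], [0, 0, 0, 0, 0, 0, 1]],
   [[0, 0, 0, 0, 0, 0, 0], [0, 0, 0, 0, 0, 0, 0], [0, 0, 2, 0, 0, 0, 0], [0, 0, 0, 1, 0, 0, 0], [0, 0, 0, 0, 2, 0, 0], [0, 0, 0, 0, 0, 1, 0], [0, 0, 0, 0, 0, 0, 0]],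
   [[0, 0, 0, 0, 0, 0, 0], [0, 0, 0, 0, 0, 1, 0], [0, 0, 0, 0, 0, 0, 2], [0, 0, 0, 0, 0, 0, 0], [0, 0, 0, 0, 0, 0, 0], [0, 0, 0, 0, 0, 0, 0], [0, 0, 0, 0, 0, 0, 0]],
   [[0, 0, 0, 0, 0, 0, 0], [0, 0, 0, 0, 1, 0, 0], [0, 0, 0, 0, 0, 0, 0], [0, 0, 0, 0, 0, 0, 2], [0, 0, 0, 0, 0, 0, 0], [0, 0, 0, 0, 0, 0, 0], [0, 0, 0, 0, 0, 0, 0]],
   [[0, 0, 0, 0, 0, 0, 1], [1, 0, 0, 0, 0, 0, 0], [0, 0, 0, 0, 1, 0, 0], [0, 0, 0, 0, 0, 2, 0], [0, 0, 0, 0, 0, 0, 0], [0, 0, 0, 0, 0, 0, 0], [0, 0, 0, 0, 0, 0, 0]],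
   [[0, 0, 0, 0, 0, 2, 0], [0, 0, 0, 1, 0, 0, 0], [2, 0, 0, 0, 0, 0, 0], [0, 0, 0, 0, 0, 0, 0], [0, 0, 0, 0, 0, 0, 2], [0, 0, 0, 0, 0, 0, 0], [0, 0, 0, 0, 0, 0, 0]],
   [[0, 0, 0, 0, 2, 0, 0], [0, 0, 2, 0, 0, 0, 0], [0, 0, 0, 0, 0, 0, 0], [2, 0, 0, 0, 0, 0, 0], [0, 0, 0, 0, 0, 0, 0], [0, 0, 0, 0, 0, 0, 1], [0, 0, 0, 0, 0, 0, 0]],
   [[0, 0, 0, 0, 0, 0, 0], [0, 0, 0, 0, 0, 0, 0], [0, 0, 0, 2, 0, 0, 0], [0, 0, 0, 0, 0, 0, 0], [0, 0, 0, 0, 0, 1, 0], [0, 0, 0, 0, 0, 0, 0], [0, 0, 0, 0, 0, 0, 0]],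
   [[0, 0, 0, 0, 0, 0, 0], [0, 0, 0, 0, 0, 0, 0], [0, 0, 0, 0, 0, 0, 0], [0, 0, 2, 0, 0, 0, 0], [0, 0, 0, 0, 0, 0, 0], [0, 0, 0, 0, 1, 0, 0], [0, 0, 0, 0, 0, 0, 0]],
   [[0, 0, 0, 1, 0, 0, 0], [0, 0, 0, 0, 0, 0, 0], [0, 2, 0, 0, 0, 0, 0], [0, 0, 0, 0, 0, 0, 0], [1, 0, 0, 0, 0, 0, 0], [0, 0, 0, 0, 0, 0, 0], [0, 0, 0, 0, 0, 1, 0]],
   [[0, 0, 1, 0, 0, 0, 0], [0, 0, 0, 0, 0, 0, 0], [0, 0, 0, 0, 0, 0, 0], [0, 1, 0, 0, 0, 0, 0], [0, 0, 0, 0, 0, 0, 0], [1, 0, 0, 0, 0, 0, 0], [0, 0, 0, 0, 2, 0, 0]],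
   [[0, 2, 0, 0, 0, 0, 0], [0, 0, 0, 0, 0, 0, 0], [0, 0, 0, 0, 0, 0, 0], [0, 0, 0, 0, 0, 0, 0], [0, 0, 1, 0, 0, 0, 0], [0, 0, 0, 2, 0, 0, 0], [2, 0, 0, 0, 0, 0, 0]],
   [[0, 0, 0, 0, 0, 0, 0], [0, 0, 0, 0, 0, 0, 0], [0, 0, 0, 0, 0, 0, 0], [0, 0, 0, 0, 0, 0, 0], [0, 1, 0, 0, 0, 0, 0], [0, 0, 0, 0, 0, 0, 0], [0, 0, 0, 2, 0, 0, 0]],
   [[0, 0, 0, 0, 0, 0, 0], [0, 0, 0, 0, 0, 0, 0], [0, 0, 0, 0, 0, 0, 0], [0, 0, 0, 0, 0, 0, 0], [0, 0, 0, 0, 0, 0, 0], [0, 1, 0, 0, 0, 0, 0], [0, 0, 2, 0, 0, 0, 0]]]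

/-- A left inverse of the derivation table. -/
noncomputable def derInvTab : List (List (List Nat)) :=
  [[[0, 0, 0, 0, 0, 0, 0], [0, 2, 0, 0, 0, 0, 0], [0, 0, 0, 0, 0, 0, 0], [0, 0, 0, 0, 0, 0, 0], [0, 0, 0, 0, 0, 0, 0], [0, 0, 0, 0, 0, 0, 0], [0, 0, 0, 0, 0, 0, 0]],
   [[0, 0, 0, 0, 0, 0, 0], [0, 2, 0, 0, 0, 0, 0], [0, 0, 2, 0, 0, 0, 0], [0, 0, 0, 0, 0, 0, 0], [0, 0, 0, 0, 0, 0, 0], [0, 0, 0, 0, 0, 0, 0], [0, 0, 0, 0, 0, 0, 0]],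
   [[0, 0, 0, 0, 0, 0, 0], [0, 0, 0, 0, 0, 1, 0], [0, 0, 0, 0, 0, 0, 0], [0, 0, 0, 0, 0, 0, 0], [0, 0, 0, 0, 0, 0, 0], [0, 0, 0, 0, 0, 0, 0], [0, 0, 0, 0, 0, 0, 0]],
   [[0, 0, 0, 0, 0, 0, 0], [0, 0, 0, 0, 1, 0, 0], [0, 0, 0, 0, 0, 0, 0], [0, 0, 0, 0, 0, 0, 0], [0, 0, 0, 0, 0, 0, 0], [0, 0, 0, 0, 0, 0, 0], [0, 0, 0, 0, 0, 0, 0]],
   [[0, 0, 0, 0, 0, 0, 1], [0, 0, 0, 0, 0, 0, 0], [0, 0, 0, 0, 0, 0, 0], [0, 0, 0, 0, 0, 0, 0], [0, 0, 0, 0, 0, 0, 0], [0, 0, 0, 0, 0, 0, 0], [0, 0, 0, 0, 0, 0, 0]],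
   [[0, 0, 0, 0, 0, 2, 0], [0, 0, 0, 0, 0, 0, 0], [0, 0, 0, 0, 0, 0, 0], [0, 0, 0, 0, 0, 0, 0], [0, 0, 0, 0, 0, 0, 0], [0, 0, 0, 0, 0, 0, 0], [0, 0, 0, 0, 0, 0, 0]],
   [[0, 0, 0, 0, 2, 0, 0], [0, 0, 0, 0, 0, 0, 0], [0, 0, 0, 0, 0, 0, 0], [0, 0, 0, 0, 0, 0, 0], [0, 0, 0, 0, 0, 0, 0], [0, 0, 0, 0, 0, 0, 0], [0, 0, 0, 0, 0, 0, 0]],
   [[0, 0, 0, 0, 0, 0, 0], [0, 0, 0, 0, 0, 0, 0], [0, 0, 0, 2, 0, 0, 0], [0, 0, 0, 0, 0, 0, 0], [0, 0, 0, 0, 0, 0, 0], [0, 0, 0, 0, 0, 0, 0], [0, 0, 0, 0, 0, 0, 0]],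
   [[0, 0, 0, 0, 0, 0, 0], [0, 0, 0, 0, 0, 0, 0], [0, 0, 0, 0, 0, 0, 0], [0, 0, 2, 0, 0, 0, 0], [0, 0, 0, 0, 0, 0, 0], [0, 0, 0, 0, 0, 0, 0], [0, 0, 0, 0, 0, 0, 0]],
   [[0, 0, 0, 1, 0, 0, 0], [0, 0, 0, 0, 0, 0, 0], [0, 0, 0, 0, 0, 0, 0], [0, 0, 0, 0, 0, 0, 0], [0, 0, 0, 0, 0, 0, 0], [0, 0, 0, 0, 0, 0, 0], [0, 0, 0, 0, 0, 0, 0]],
   [[0, 0, 1, 0, 0, 0, 0], [0, 0, 0, 0, 0, 0, 0], [0, 0, 0, 0, 0, 0, 0], [0, 0, 0, 0, 0, 0, 0], [0, 0, 0, 0, 0, 0, 0], [0, 0, 0, 0, 0, 0, 0], [0, 0, 0, 0, 0, 0, 0]],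
   [[0, 2, 0, 0, 0, 0, 0], [0, 0, 0, 0, 0, 0, 0], [0, 0, 0, 0, 0, 0, 0], [0, 0, 0, 0, 0, 0, 0], [0, 0, 0, 0, 0, 0, 0], [0, 0, 0, 0, 0, 0, 0], [0, 0, 0, 0, 0, 0, 0]],
   [[0, 0, 0, 0, 0, 0, 0], [0, 0, 0, 0, 0, 0, 0], [0, 0, 0, 0, 0, 0, 0], [0, 0, 0, 0, 0, 0, 0], [0, 1, 0, 0, 0, 0, 0], [0, 0, 0, 0, 0, 0, 0], [0, 0, 0, 0, 0, 0, 0]],
   [[0, 0, 0, 0, 0, 0, 0], [0, 0, 0, 0, 0, 0, 0], [0, 0, 0, 0, 0, 0, 0], [0, 0, 0, 0, 0, 0, 0], [0, 0, 0, 0, 0, 0, 0], [0, 1, 0, 0, 0, 0, 0], [0, 0, 0, 0, 0, 0, 0]]]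

/-- The powers of the chosen element of order 7. -/
noncomputable def powTab7 : List (List (List Nat)) :=
  [[[1, 0, 0, 0, 0, 0, 0], [0, 1, 0, 0, 0, 0, 0], [0, 0, 1, 0, 0, 0, 0], [0, 0, 0, 1, 0, 0, 0], [0, 0, 0, 0, 1, 0, 0], [0, 0, 0, 0, 0, 1, 0], [0, 0, 0, 0, 0, 0, 1]],
   [[1, 2, 0, 0, 0, 2, 0], [0, 2, 1, 1, 1, 1, 2], [2, 2, 2, 0, 0, 2, 2], [0, 0, 1, 1, 0, 0, 2], [0, 0, 1, 0, 1, 0, 2], [0, 1, 0, 0, 0, 1, 0], [0, 0, 2, 0, 0, 0, 1]],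
   [[1, 2, 2, 2, 2, 0, 1], [2, 1, 1, 0, 0, 2, 0], [0, 2, 1, 2, 2, 0, 1], [2, 2, 1, 1, 0, 2, 0], [2, 2, 1, 0, 1, 2, 0], [0, 0, 1, 1, 1, 2, 2], [1, 1, 0, 0, 0, 1, 2]],
   [[2, 1, 0, 1, 1, 2, 2], [1, 1, 0, 1, 1, 0, 1], [2, 0, 1, 1, 1, 1, 0], [1, 0, 2, 0, 2, 1, 2], [1, 0, 2, 2, 0, 1, 2], [2, 1, 2, 1, 1, 1, 2], [1, 2, 2, 1, 1, 1, 1]],
   [[2, 2, 1, 2, 2, 1, 2], [1, 1, 2, 2, 2, 0, 1], [1, 1, 1, 1, 1, 1, 0], [2, 1, 1, 0, 2, 1, 1], [2, 1, 1, 2, 0, 1, 1], [0, 2, 2, 2, 2, 1, 0], [2, 2, 1, 0, 0, 0, 1]],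
   [[1, 2, 0, 1, 1, 0, 1], [2, 2, 2, 0, 0, 1, 0], [0, 1, 2, 2, 2, 0, 2], [1, 0, 1, 1, 0, 2, 0], [1, 0, 1, 0, 1, 2, 0], [1, 0, 1, 1, 1, 1, 1], [1, 1, 0, 2, 2, 2, 1]],
   [[1, 0, 0, 0, 0, 1, 0], [0, 1, 0, 2, 2, 2, 2], [1, 0, 1, 0, 0, 2, 1], [0, 0, 0, 1, 0, 0, 1], [0, 0, 0, 0, 1, 0, 1], [0, 2, 0, 1, 1, 2, 1], [1, 0, 1, 0, 0, 2, 2]]]

/-- The inverse of the cyclic basis for order 7. -/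
noncomputable def cycInvTab7 : List (List Nat) :=
  [[0, 2, 2, 2, 1, 1, 0],
   [2, 1, 2, 1, 0, 1, 1],
   [2, 0, 0, 1, 0, 0, 2],
   [1, 0, 2, 1, 0, 0, 2],
   [2, 0, 1, 1, 0, 0, 1],
   [1, 0, 2, 1, 0, 0, 1],
   [1, 0, 0, 1, 0, 1, 2]]

/-- The coordinates of the product used for order 7. -/
noncomputable def coefTab7 : List Nat := [2, 0, 0, 2, 1, 1, 1]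

/-- The linear side of the test for order 7. -/
noncomputable def linTab7 : List (List Nat) :=
  [[1, 0, 1, 2, 2, 0, 1],
   [2, 2, 1, 0, 0, 0, 2],
   [0, 2, 2, 2, 2, 2, 0],
   [2, 1, 0, 1, 0, 2, 0],
   [2, 1, 0, 0, 1, 2, 0],
   [2, 0, 1, 0, 0, 2, 0],
   [0, 1, 0, 1, 1, 0, 2]]

/-- The quadratic side of the test for order 7. -/
noncomputable def quadTab7 : List (List (List Nat)) :=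
  [[[0, 0, 0, 0, 0, 0, 0], [1, 2, 2, 1, 1, 1, 1], [1, 2, 1, 2, 2, 2, 1], [2, 0, 1, 1, 0, 2, 1], [1, 0, 2, 0, 2, 1, 2], [2, 0, 1, 1, 1, 1, 0], [2, 2, 0, 2, 2, 0, 2]],
   [[2, 2, 0, 2, 2, 0, 2], [2, 1, 0, 1, 1, 2, 2], [1, 0, 2, 0, 2, 1, 2], [1, 0, 2, 2, 2, 2, 0], [0, 0, 0, 0, 0, 0, 0], [0, 0, 0, 0, 0, 0, 0], [0, 0, 0, 0, 0, 0, 0]],
   [[2, 0, 1, 1, 1, 1, 0], [1, 0, 2, 2, 0, 1, 2], [1, 2, 0, 2, 2, 1, 1], [0, 0, 0, 0, 0, 0, 0], [2, 2, 0, 2, 2, 0, 2], [0, 0, 0, 0, 0, 0, 0], [0, 0, 0, 0, 0, 0, 0]],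
   [[1, 0, 2, 0, 2, 1, 2], [1, 2, 1, 2, 2, 2, 1], [0, 0, 0, 0, 0, 0, 0], [1, 2, 0, 2, 2, 1, 1], [0, 0, 0, 0, 0, 0, 0], [1, 1, 0, 1, 1, 0, 1], [0, 0, 0, 0, 0, 0, 0]],
   [[2, 0, 1, 1, 0, 2, 1], [0, 0, 0, 0, 0, 0, 0], [2, 1, 1, 2, 2, 2, 2], [0, 0, 0, 0, 0, 0, 0], [2, 1, 0, 1, 1, 2, 2], [0, 0, 0, 0, 0, 0, 0], [2, 0, 1, 1, 1, 1, 0]],
   [[1, 2, 1, 2, 2, 2, 1], [0, 0, 0, 0, 0, 0, 0], [0, 0, 0, 0, 0, 0, 0], [1, 2, 2, 1, 1, 1, 1], [0, 0, 0, 0, 0, 0, 0], [2, 1, 0, 1, 1, 2, 2], [2, 0, 1, 0, 1, 2, 1]],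
   [[1, 2, 2, 1, 1, 1, 1], [0, 0, 0, 0, 0, 0, 0], [0, 0, 0, 0, 0, 0, 0], [0, 0, 0, 0, 0, 0, 0], [2, 1, 2, 1, 1, 1, 2], [2, 0, 1, 1, 0, 2, 1], [1, 2, 0, 2, 2, 1, 1]]]

/-- The powers of the chosen element of order 13. -/
noncomputable def powTab13 : List (List (List Nat)) :=
  [[[1, 0, 0, 0, 0, 0, 0], [0, 1, 0, 0, 0, 0, 0], [0, 0, 1, 0, 0, 0, 0], [0, 0, 0, 1, 0, 0, 0], [0, 0, 0, 0, 1, 0, 0], [0, 0, 0, 0, 0, 1, 0], [0, 0, 0, 0, 0, 0, 1]],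
   [[1, 2, 2, 0, 2, 0, 0], [2, 0, 2, 2, 0, 1, 1], [1, 1, 1, 0, 0, 0, 2], [2, 1, 2, 1, 2, 0, 0], [0, 0, 1, 0, 1, 0, 0], [2, 2, 0, 2, 0, 1, 1], [2, 2, 0, 0, 0, 0, 1]],
   [[1, 1, 1, 1, 1, 2, 0], [0, 0, 1, 1, 2, 1, 0], [2, 1, 2, 2, 2, 1, 2], [2, 1, 0, 0, 2, 1, 2], [1, 1, 2, 0, 1, 0, 2], [2, 1, 0, 2, 2, 0, 1], [2, 0, 2, 1, 1, 2, 0]],
   [[1, 2, 2, 1, 2, 0, 2], [2, 1, 2, 0, 1, 1, 0], [1, 2, 2, 0, 1, 2, 2], [1, 1, 2, 1, 0, 2, 1], [0, 2, 1, 2, 0, 1, 1], [1, 2, 0, 1, 1, 1, 2], [1, 2, 0, 2, 1, 2, 0]],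
   [[1, 0, 0, 2, 0, 2, 2], [2, 2, 0, 1, 2, 2, 0], [0, 0, 0, 2, 0, 1, 1], [1, 2, 2, 1, 1, 0, 2], [1, 1, 0, 2, 1, 0, 0], [1, 0, 0, 1, 2, 0, 2], [1, 2, 2, 1, 1, 1, 1]],
   [[1, 0, 0, 0, 0, 2, 1], [0, 0, 0, 0, 2, 1, 1], [2, 0, 1, 1, 1, 1, 2], [1, 0, 2, 2, 2, 2, 2], [1, 1, 0, 1, 1, 1, 1], [1, 1, 0, 1, 0, 0, 2], [1, 0, 2, 1, 2, 0, 2]],
   [[1, 2, 2, 1, 2, 2, 0], [1, 1, 2, 2, 2, 1, 2], [2, 0, 2, 0, 1, 1, 2], [0, 2, 1, 0, 2, 2, 2], [0, 1, 1, 2, 2, 2, 0], [0, 1, 0, 0, 1, 1, 0], [0, 0, 2, 1, 0, 0, 0]],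
   [[1, 0, 0, 0, 0, 1, 2], [0, 0, 0, 0, 2, 2, 2], [1, 0, 1, 2, 2, 1, 1], [1, 0, 1, 2, 2, 1, 2], [2, 1, 0, 2, 0, 0, 2], [1, 2, 0, 1, 1, 2, 2], [1, 0, 1, 1, 2, 0, 1]],
   [[1, 2, 2, 2, 2, 1, 0], [2, 2, 2, 1, 2, 2, 1], [1, 0, 0, 1, 2, 1, 1], [0, 2, 0, 1, 2, 1, 2], [0, 1, 1, 1, 2, 1, 0], [0, 2, 0, 0, 2, 1, 0], [0, 0, 1, 1, 0, 0, 0]],
   [[1, 2, 2, 2, 2, 0, 1], [1, 1, 2, 0, 2, 1, 0], [1, 1, 0, 0, 0, 1, 2], [0, 1, 2, 1, 1, 0, 2], [1, 1, 1, 2, 1, 2, 1], [0, 2, 0, 0, 2, 0, 0], [0, 2, 0, 1, 2, 0, 2]],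
   [[1, 2, 2, 0, 2, 2, 1], [1, 0, 2, 1, 1, 2, 0], [0, 2, 1, 1, 2, 2, 1], [1, 1, 1, 0, 0, 1, 1], [2, 2, 1, 2, 1, 0, 0], [1, 0, 0, 1, 2, 2, 2], [1, 2, 2, 2, 1, 2, 1]],
   [[1, 1, 1, 2, 1, 1, 0], [0, 0, 1, 2, 2, 2, 0], [1, 2, 0, 0, 1, 1, 1], [2, 1, 2, 1, 2, 2, 2], [2, 1, 2, 0, 0, 2, 1], [2, 2, 0, 2, 0, 2, 1], [2, 0, 1, 1, 1, 1, 0]],
   [[1, 1, 1, 0, 1, 2, 1], [0, 1, 1, 0, 0, 2, 1], [0, 0, 1, 0, 0, 0, 1], [1, 0, 0, 1, 2, 0, 0], [0, 0, 2, 0, 1, 0, 2], [1, 0, 0, 1, 2, 1, 2], [1, 2, 2, 0, 1, 1, 0]]]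

/-- The inverse of the cyclic basis for order 13. -/
noncomputable def cycInvTab13 : List (List Nat) :=
  [[1, 2, 1, 0, 0, 1, 1],
   [0, 2, 0, 1, 1, 2, 0],
   [1, 1, 2, 0, 1, 1, 0],
   [0, 1, 1, 1, 1, 0, 0],
   [0, 2, 0, 1, 0, 1, 0],
   [1, 0, 1, 2, 1, 1, 0],
   [1, 1, 1, 0, 2, 0, 0]]

/-- The coordinates of the product used for order 13. -/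
noncomputable def coefTab13 : List Nat := [2, 2, 1, 2, 0, 1, 0]

/-- The linear side of the test for order 13. -/
noncomputable def linTab13 : List (List Nat) :=
  [[2, 0, 0, 0, 0, 1, 2],
   [2, 1, 0, 2, 0, 0, 0],
   [2, 1, 2, 0, 2, 0, 0],
   [0, 2, 1, 2, 2, 1, 0],
   [2, 0, 0, 2, 0, 0, 2],
   [0, 1, 0, 0, 1, 0, 0],
   [0, 2, 1, 0, 2, 0, 0]]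

/-- The quadratic side of the test for order 13. -/
noncomputable def quadTab13 : List (List (List Nat)) :=
  [[[0, 0, 0, 0, 0, 0, 0], [2, 2, 0, 0, 0, 0, 1], [1, 1, 0, 1, 0, 2, 2], [0, 0, 2, 0, 2, 0, 0], [2, 1, 2, 1, 2, 0, 0], [1, 1, 1, 0, 0, 0, 2], [1, 0, 1, 1, 0, 2, 2]],
   [[1, 0, 1, 1, 0, 2, 2], [1, 2, 2, 0, 2, 0, 0], [2, 1, 2, 1, 2, 0, 0], [2, 2, 2, 0, 0, 0, 1], [0, 0, 0, 0, 0, 0, 0], [0, 0, 0, 0, 0, 0, 0], [0, 0, 0, 0, 0, 0, 0]],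
   [[1, 1, 1, 0, 0, 0, 2], [0, 0, 1, 0, 1, 0, 0], [2, 1, 1, 0, 1, 0, 0], [0, 0, 0, 0, 0, 0, 0], [1, 0, 1, 1, 0, 2, 2], [0, 0, 0, 0, 0, 0, 0], [0, 0, 0, 0, 0, 0, 0]],
   [[2, 1, 2, 1, 2, 0, 0], [1, 1, 0, 1, 0, 2, 2], [0, 0, 0, 0, 0, 0, 0], [2, 1, 1, 0, 1, 0, 0], [0, 0, 0, 0, 0, 0, 0], [2, 0, 2, 2, 0, 1, 1], [0, 0, 0, 0, 0, 0, 0]],
   [[0, 0, 2, 0, 2, 0, 0], [0, 0, 0, 0, 0, 0, 0], [1, 1, 0, 0, 0, 0, 2], [0, 0, 0, 0, 0, 0, 0], [1, 2, 2, 0, 2, 0, 0], [0, 0, 0, 0, 0, 0, 0], [1, 1, 1, 0, 0, 0, 2]],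
   [[1, 1, 0, 1, 0, 2, 2], [0, 0, 0, 0, 0, 0, 0], [0, 0, 0, 0, 0, 0, 0], [2, 2, 0, 0, 0, 0, 1], [0, 0, 0, 0, 0, 0, 0], [1, 2, 2, 0, 2, 0, 0], [1, 2, 1, 2, 1, 0, 0]],
   [[2, 2, 0, 0, 0, 0, 1], [0, 0, 0, 0, 0, 0, 0], [0, 0, 0, 0, 0, 0, 0], [0, 0, 0, 0, 0, 0, 0], [2, 2, 0, 2, 0, 1, 1], [0, 0, 2, 0, 2, 0, 0], [2, 1, 1, 0, 1, 0, 0]]]

end CfsgLib.G2Three
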