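import Cfsg.Agent.G2Three.Main
import Cfsg.Agent.DicksonPSL2.Orders
import Mathlib.Algebra.Field.ZMod

/-!
Transfer to any field with three elements, and the orders of elements of `PSL(2, 13)`.
-/

set_option autoImplicit false
set_option linter.unusedSectionVars false
set_option linter.style.haveILetI false

namespace CfsgLib.G2Three

open Cfsg.Lie
open scoped MatrixGroups

/-- The group over any field with three elements is isomorphic to the one over `ZMod 3`. -/
theorem nonempty_equiv {F : Type*} [Field F] [Fintype F] (hF : Fintype.card F = 3) :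
    Nonempty (↥(chevG2.group F) ≃* G23) := by
  let e : K3 ≃+* F := ZMod.ringEquivOfPrime F Nat.prime_three hF
  let f : GL Ix K3 →* GL Ix F := Units.map (RingHom.mapMatrix (e : K3 →+* F)).toMonoidHom
  have hx : ∀ r t, ((chevG2.xMat K3 r t).map e : Matrix Ix Ix F) = chevG2.xMat F r (e t) := by
    intro r t
    ext row col
    simp only [Matrix.map_apply, ChevalleyDatum.xMat, Matrix.of_apply]
    rcases col with i | s <;> rcases row with i' | u <;> simp only [] <;>
      split_ifs <;> simp [map_list_sum, List.map_map, Function.comp_def]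
  let f' : GL Ix F →* GL Ix K3 := Units.map (RingHom.mapMatrix (e.symm : F →+* K3)).toMonoidHom
  have himg : Subgroup.map f G23 = chevG2.group F := by
    rw [G23, ChevalleyDatum.group, MonoidHom.map_closure, ChevalleyDatum.group]
    congr 1
    ext g
    constructor
    · rintro ⟨h, ⟨r, t, he⟩, rfl⟩
      exact ⟨r, e t, by rw [← hx r t, ← he]; rfl⟩
    · rintro ⟨r, t, he⟩
      refine ⟨f' g, ⟨r, e.symm t, ?_⟩, ?_⟩
      · show (g.1).map e.symm = _
        rw [he, show t = e (e.symm t) from (e.apply_symm_apply t).symm, ← hx, e.symm_apply_apply]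
        ext a b; simp [Matrix.map_apply]
      · apply Units.ext
        ext a b
        simp [f, f', Matrix.map_apply]
  have hinj : Function.Injective f := by
    intro a b h
    apply Units.ext
    ext i j
    have h2 : (f a).1 i j = (f b).1 i j := by rw [h]
    exact e.injective h2
  exact ⟨((G23.equivMapOfInjective f hinj).trans (MulEquiv.subgroupCongr himg)).symm⟩

section PSL

open DicksonPSL2

variable {E : Type*} [Field E] [Fintype E]

theorem orderOf_dvd_of_thirteen (hE : Fintype.card E = 13) (x : PSL(2, E)) :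
    orderOf x ∣ 6 ∨ orderOf x ∣ 7 ∨ orderOf x ∣ 13 := by
  haveI : Fact (Nat.Prime 13) := ⟨by norm_num⟩
  haveI : CharP E 13 := charP_of_card_eq_prime hE
  by_cases h : IsTor x
  · have h1 : orderOf x ∣ Nat.card (torus x) := Subgroup.orderOf_dvd_natCard _ (self_mem_torus x)
    rcases card_torus h with e | e <;> rw [hE] at e
    · left; rwa [show Nat.card (torus x) = 6 by norm_num at e; omega] at h1
    · right; left; rwa [show Nat.card (torus x) = 7 by norm_num at e; omega] at h1
  · rw [isTor_iff_pow 13, not_not] at h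
    exact Or.inr (Or.inr (orderOf_dvd_of_pow_eq_one h))

theorem exists_order_six_PSL (hE : Fintype.card E = 13) : ∃ x : PSL(2, E), orderOf x = 6 := by
  obtain ⟨x, hx, -, hc⟩ := exists_torus_minus E (by omega)
  rw [hE] at hc
  haveI := isCyclic_torus hx
  obtain ⟨y, hy⟩ := IsCyclic.exists_ofOrder_eq_natCard (α := torus x)
  exact ⟨y.1, by rw [Subgroup.orderOf_coe, hy]; norm_num at hc; omega⟩

theorem dvd_card_PSL (hE : Fintype.card E = 13) {r : ℕ} (hr : r.Prime) :
    r ∣ Nat.card PSL(2, E) ↔ r = 2 ∨ r = 3 ∨ r = 7 ∨ r = 13 := by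
  have h := Linear.card_PSL_two_odd (F := E) (by rw [hE]; decide)
  rw [hE] at h
  rw [show Nat.card PSL(2, E) = 2 ^ 2 * 3 * 7 * 13 by norm_num at h ⊢; omega]
  constructor
  · intro hd
    rcases hr.dvd_mul.1 hd with hd | hd
    · rcases hr.dvd_mul.1 hd with hd | hd
      · rcases hr.dvd_mul.1 hd with hd | hd
        · exact Or.inl ((Nat.prime_dvd_prime_iff_eq hr Nat.prime_two).1 (hr.dvd_of_dvd_pow hd))
        · exact Or.inr (Or.inl ((Nat.prime_dvd_prime_iff_eq hr Nat.prime_three).1 hd))
      · exact Or.inr (Or.inr (Or.inl ((Nat.prime_dvd_prime_iff_eq hr (by norm_num)).1 hd)))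
    · exact Or.inr (Or.inr (Or.inr ((Nat.prime_dvd_prime_iff_eq hr (by norm_num)).1 hd)))
  · rintro (rfl | rfl | rfl | rfl) <;> norm_num

theorem same_edges (hE : Fintype.card E = 13) {r s : ℕ} (hr : r.Prime) (hs : s.Prime) (hne : r ≠ s) :
    (∃ x : G23, orderOf x = r * s) ↔ (∃ y : PSL(2, E), orderOf y = r * s) := by
  have h1 : (∃ x : G23, orderOf x = r * s) ↔ r * s = 6 := by
    constructor
    · rintro ⟨x, hx⟩
      have hd : ∀ p, p.Prime → p ∣ r * s → p = 2 ∨ p = 3 ∨ p = 7 ∨ p = 13 := fun p hp hd =>
        (dvd_card_iff hp).1 (hd.trans (hx ▸ orderOf_dvd_natCard x))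
      have a := hd r hr (dvd_mul_right r s)
      have b := hd s hs (dvd_mul_left s r)
      have c : ¬(r = 7 ∨ r = 13) := fun h => no_edge h hs hne ⟨x, hx⟩
      have d : ¬(s = 7 ∨ s = 13) := fun h => no_edge h hr hne.symm ⟨x, by rw [hx, mul_comm]⟩
      rcases a with rfl | rfl | rfl | rfl <;> rcases b with rfl | rfl | rfl | rfl <;> simp at *
    · intro h; rw [h]; exact exists_order_six
  rw [h1]
  constructor
  · intro h; rw [h]; exact exists_order_six_PSL hE
  · rintro ⟨y, hy⟩
    have h2 : ¬ (r * s).Prime := fun h => hr.ne_one ((h.eq_one_or_self_of_dvd r (dvd_mul_right r s)).resolve_right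
      fun e => by have := hs.two_le; have := hr.pos; nlinarith)
    have hgt : 1 < r * s := Nat.one_lt_mul_iff.2 ⟨hr.pos, hs.pos, Or.inl hr.one_lt⟩
    rcases orderOf_dvd_of_thirteen hE y with h | h | h <;> rw [hy] at h
    · have : r * s ∈ Nat.divisors 6 := Nat.mem_divisors.2 ⟨h, by norm_num⟩
      rw [show Nat.divisors 6 = {1, 2, 3, 6} from by decide] at this
      simp only [Finset.mem_insert, Finset.mem_singleton] at this
      rcases this with e | e | e | e
      · omega
      · exact absurd (e ▸ Nat.prime_two) h2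
      · exact absurd (e ▸ Nat.prime_three) h2
      · exact e
    · exact absurd (((Nat.dvd_prime (by norm_num : Nat.Prime 7)).1 h).resolve_left (by omega) ▸ (by norm_num : Nat.Prime 7)) h2
    · exact absurd (((Nat.dvd_prime (by norm_num : Nat.Prime 13)).1 h).resolve_left (by omega) ▸ (by norm_num : Nat.Prime 13)) h2

end PSL

end CfsgLib.G2Three
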